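import Cfsg.Agent.H0.OutA
import Cfsg.Agent.H6.MHS.D
set_option maxRecDepth 100000
set_option Elab.async false
set_option linter.unusedSectionVars false
namespace H0.OHS
open H0 BN 
noncomputable def xO2 : ℕ := (ival 0 100)
noncomputable def xO1 : ℕ := (bitsL [5, 8, 9, 20, 23, 24, 29, 30, 42, 53, 54, 60, 66, 67, 69, 74, 80, 83, 86, 93, 94, 98])
noncomputable def xO0 : ℕ := (bitsL [5, 30, 74])
noncomputable def yO5 : ℕ := (ival 0 100)
noncomputable def yO4 : ℕ := (bitsL [6, 8, 13, 20, 22, 24, 41, 45, 46, 51, 52, 61, 62, 66, 73, 75, 78, 81, 86, 92, 97, 98])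
noncomputable def yO3 : ℕ := (bitsL [4])
noncomputable def yO2 : ℕ := (bitsL [6, 8, 13, 20, 22, 24, 41, 45, 46, 51, 52, 61, 66, 73, 75, 78, 81, 86, 92, 97, 98])
noncomputable def yO1 : ℕ := (bitsL [4, 48, 59, 89, 91])
noncomputable def yO0 : ℕ := (bitsL [11, 14, 26, 33, 34, 38, 56, 57, 63, 68, 71, 77, 79, 87, 96, 99])
noncomputable def s43 : Net := (Net.cons (nat_lit 64) (nat_lit 0xa49ab2ca7cf6a0) (Net.cons (nat_lit 32) (nat_lit 0xcccdbd1f000000002e5807b7) (Net.cons (nat_lit 16) (nat_lit 0x8afc00008a200000729d0000a7f0) (Net.cons (nat_lit 8) (nat_lit 0xbc003d000400840096000500360048) (Net.cons (nat_lit 4) (nat_lit 0xe000a0e020808080c04070c08010103) (Net.cons (nat_lit 2) (nat_lit 0x10030010210202301103012103320013) (Net.cons (nat_lit 1) (nat_lit 0x54010114111004101500101001415145) (Net.cons (nat_lit 2) (nat_lit 0x2020200220000002000000000220200) (Net.cons (nat_lit 4) (nat_lit 0x20808080c080804060a0c040c04) (Net.cons (nat_lit 8) (nat_lit 0x300090000600d4001c0074003a001a)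 (Net.cons (nat_lit 16) (nat_lit 0x6f400008880000070dc00002fb2) (Net.cons (nat_lit 32) (nat_lit 0xcc693f2a000000004b0902b0) (Net.cons (nat_lit 64) (nat_lit 0xa49abaaff90fae) Net.nil)))))))))))))
noncomputable def n11 : Net := (Net.cons (nat_lit 64) (nat_lit 0x2485950fad6f8342) (Net.cons (nat_lit 32) (nat_lit 0x1022b7a400000000a29ca6fe) (Net.cons (nat_lit 16) (nat_lit 0x13200000698f0000ea0000008d3c) (Net.cons (nat_lit 8) (nat_lit 0x3400140054002900c6005e00750053) (Net.cons (nat_lit 4) (nat_lit 0x401040c060c000e0508060207060601) (Net.cons (nat_lit 2) (nat_lit 0x20232022310230130302100130011202) (Net.cons (nat_lit 1) (nat_lit 0x41144051144410014040144041101110) (Net.cons (nat_lit 2) (nat_lit 0x20222002000220000000002022002000) (Net.cons (nat_lit 4) (nat_lit 0x600040c0e08040208000c0a00060000) (Net.cons (nat_lit 8) (nat_lit 0x300010001600b4005c0030003c0072) (Net.cons (nat_lit 16) (nat_lit 0x27200000688a000028240000dd0e) (Net.cons (nat_lit 32) (nat_lit 0x3423b7a800000000e9a6a624)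 (Net.cons (nat_lit 64) (nat_lit 0x24859506cca76954) Net.nil)))))))))))))
noncomputable def n12 : Net := (Net.cons (nat_lit 64) (nat_lit 0x9a879a46c70b0283) (Net.cons (nat_lit 32) (nat_lit 0x1c4369d000000000e8ad397f) (Net.cons (nat_lit 16) (nat_lit 0x586000000860000c13d000000f8) (Net.cons (nat_lit 8) (nat_lit 0x4900d800a0002a004d00df009a0086) (Net.cons (nat_lit 4) (nat_lit 0xd000c0200010e00080900020e02060c) (Net.cons (nat_lit 2) (nat_lit 0x3031031022030022002310312000032) (Net.cons (nat_lit 1) (nat_lit 0x15414101110444041110151100010) (Net.cons (nat_lit 2) (nat_lit 0x20000002020020022020002000020) (Net.cons (nat_lit 4) (nat_lit 0xc08080e00080c0808000a0a06000004) (Net.cons (nat_lit 8) (nat_lit 0xc8009a00b800ac00280002008a00c0) (Net.cons (nat_lit 16) (nat_lit 0xd82000010a60000a160000024d8) (Net.cons (nat_lit 32) (nat_lit 0x1c42f1d400000000e99d1948) (Net.cons (nat_lit 64) (nat_lit 0x9a879a4319695b46) Net.nil)))))))))))))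
noncomputable def n13 : Net := (Net.cons (nat_lit 64) (nat_lit 0x220aace27e2aeecf) (Net.cons (nat_lit 32) (nat_lit 0xe0558f0500000000f4c775c0) (Net.cons (nat_lit 16) (nat_lit 0xccca0000518a0000e215000045f5) (Net.cons (nat_lit 8) (nat_lit 0x2c004a008e004f00e2000a00d800b4) (Net.cons (nat_lit 4) (nat_lit 0x80e00040200030a0a0003000a000503) (Net.cons (nat_lit 2) (nat_lit 0x2232200100203202201211020323323) (Net.cons (nat_lit 1) (nat_lit 0x4144101400441114110440010010401) (Net.cons (nat_lit 2) (nat_lit 0x222000200022222000000000020202) (Net.cons (nat_lit 4) (nat_lit 0x80002020004020a0000040a040006) (Net.cons (nat_lit 8) (nat_lit 0xaa0048008c00ca00a4005a00c00024) (Net.cons (nat_lit 16) (nat_lit 0x4cc800007d280000e690000055e8) (Net.cons (nat_lit 32) (nat_lit 0xe05f8bee00000000f4c775c0) (Net.cons (nat_lit 64) (nat_lit 0x220aaced5e0fff8c) Net.nil)))))))))))))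
noncomputable def n14 : Net := (Net.cons (nat_lit 64) (nat_lit 0xb994470a13545556) (Net.cons (nat_lit 32) (nat_lit 0x9fd4627100000000b506ebfa) (Net.cons (nat_lit 16) (nat_lit 0xaee40000258500009aba00002eab) (Net.cons (nat_lit 8) (nat_lit 0x2000d500000093003b0046005000f8) (Net.cons (nat_lit 4) (nat_lit 0x2000d000502040f07030908080a040f) (Net.cons (nat_lit 2) (nat_lit 0x1301002012301022320300030023232) (Net.cons (nat_lit 1) (nat_lit 0x1400441401401511505444110400441) (Net.cons (nat_lit 2) (nat_lit 0x200202002202022000220000000222) (Net.cons (nat_lit 4) (nat_lit 0x200000800000606040a0a080c000006) (Net.cons (nat_lit 8) (nat_lit 0x2000d00000001000d20024007000e0) (Net.cons (nat_lit 16) (nat_lit 0x8ff40000ec000000399a00002a38) (Net.cons (nat_lit 32) (nat_lit 0xbe50217000000000f52d5b4c) (Net.cons (nat_lit 64) (nat_lit 0xb9944703d9651b68) Net.nil)))))))))))))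
noncomputable def n15 : Net := (Net.cons (nat_lit 64) (nat_lit 0xdba4cc22cc90fc44) (Net.cons (nat_lit 32) (nat_lit 0x13bd92d0000000087ec1646) (Net.cons (nat_lit 16) (nat_lit 0xd260000898a000095f5000032e3) (Net.cons (nat_lit 8) (nat_lit 0xcb002a002e00ac00c5008500220012) (Net.cons (nat_lit 4) (nat_lit 0x901020000020a01020102010e0f0b05) (Net.cons (nat_lit 2) (nat_lit 0x22213003302023103200013330213202) (Net.cons (nat_lit 1) (nat_lit 0x14441101404441400405004110040101) (Net.cons (nat_lit 2) (nat_lit 0x22220002000022200200002200020202) (Net.cons (nat_lit 4) (nat_lit 0x8000008040c0c0000000408040800) (Net.cons (nat_lit 8) (nat_lit 0x500022008c008c00d0002400480052) (Net.cons (nat_lit 16) (nat_lit 0xcc000000e1ea0000b16200005aa8) (Net.cons (nat_lit 32) (nat_lit 0x829fd50a0000000087e607c8) (Net.cons (nat_lit 64) (nat_lit 0xdba4cc2a52c41060) Net.nil)))))))))))))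
noncomputable def n16 : Net := (Net.cons (nat_lit 64) (nat_lit 0xc442000de95109fa) (Net.cons (nat_lit 32) (nat_lit 0x9dce52d200000000b29625a6) (Net.cons (nat_lit 16) (nat_lit 0xdd860000e0730000cb3b00003604) (Net.cons (nat_lit 8) (nat_lit 0x50009400a4009f00ce00e900a3001c) (Net.cons (nat_lit 4) (nat_lit 0x20b0d000a040c020102040103040a) (Net.cons (nat_lit 2) (nat_lit 0x303130000103232110221000030210) (Net.cons (nat_lit 1) (nat_lit 0x441014000114011001411014041504) (Net.cons (nat_lit 2) (nat_lit 0x200022000200020002022020022002) (Net.cons (nat_lit 4) (nat_lit 0xa0204000804000a08080e08000606) (Net.cons (nat_lit 8) (nat_lit 0x500040008400f600440040008a0034) (Net.cons (nat_lit 16) (nat_lit 0xcdc6000040520000400e00001124) (Net.cons (nat_lit 32) (nat_lit 0x9d8c52d200000000aa06cfd6) (Net.cons (nat_lit 64) (nat_lit 0xc4420000e45f4960) Net.nil)))))))))))))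
noncomputable def n17 : Net := (Net.cons (nat_lit 64) (nat_lit 0xba71d62aeb10269d) (Net.cons (nat_lit 32) (nat_lit 0xd9a6af7e00000000ea7fcdff) (Net.cons (nat_lit 16) (nat_lit 0xef61000072f10000243d00002d44) (Net.cons (nat_lit 8) (nat_lit 0x69006500e80016006200dc00ca000a) (Net.cons (nat_lit 4) (nat_lit 0x80603010c0c04030608030c0c080006) (Net.cons (nat_lit 2) (nat_lit 0x21232300320110132101132301000010) (Net.cons (nat_lit 1) (nat_lit 0x45111111100010154114450101400110) (Net.cons (nat_lit 2) (nat_lit 0x20202000000000002022000000000220) (Net.cons (nat_lit 4) (nat_lit 0x8080400040404000404060206080006) (Net.cons (nat_lit 8) (nat_lit 0x8c001c00e0001200ec0090008a000e) (Net.cons (nat_lit 16) (nat_lit 0xb6520000e0f0000045b800002cc0) (Net.cons (nat_lit 32) (nat_lit 0x51e77d7200000000eff5ed60) (Net.cons (nat_lit 64) (nat_lit 0xba71d622d3195622) Net.nil)))))))))))))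
noncomputable def n18 : Net := (Net.cons (nat_lit 64) (nat_lit 0xb1ad9860e080c2c4) (Net.cons (nat_lit 32) (nat_lit 0x5ae6f1990000000098848ce8) (Net.cons (nat_lit 16) (nat_lit 0x607700008ee5000062b400000981) (Net.cons (nat_lit 8) (nat_lit 0xfe009d00540092004e001a00460038) (Net.cons (nat_lit 4) (nat_lit 0xe0d0c0e0b0308010408090c0203050c) (Net.cons (nat_lit 2) (nat_lit 0x22010120300102011230000220031030) (Net.cons (nat_lit 1) (nat_lit 0x14114014440104104444400541110511) (Net.cons (nat_lit 2) (nat_lit 0x2020000200200002200000020220000) (Net.cons (nat_lit 4) (nat_lit 0xa0c0406060208000208000c000a000c) (Net.cons (nat_lit 8) (nat_lit 0x960094004400120038001200240038) (Net.cons (nat_lit 16) (nat_lit 0x15200009ec40000e6b000006f90) (Net.cons (nat_lit 32) (nat_lit 0x5be26998000000009086ec64) (Net.cons (nat_lit 64) (nat_lit 0xb1ad9860a1c44860) Net.nil)))))))))))))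
noncomputable def n19 : Net := (Net.cons (nat_lit 64) (nat_lit 0x18ac3c0ca784227b) (Net.cons (nat_lit 32) (nat_lit 0x95d761da000000008bce187d) (Net.cons (nat_lit 16) (nat_lit 0x50e900008a0c0000cf5800009746) (Net.cons (nat_lit 8) (nat_lit 0x92005c008c002c00f300df006600f4) (Net.cons (nat_lit 4) (nat_lit 0xd060702000e06030c00030805050f) (Net.cons (nat_lit 2) (nat_lit 0x33001012122010200020000222230113) (Net.cons (nat_lit 1) (nat_lit 0x14400101140040411044041540441011) (Net.cons (nat_lit 2) (nat_lit 0x20000200020020202000002020220000) (Net.cons (nat_lit 4) (nat_lit 0x8020600080e040a0008060c020608) (Net.cons (nat_lit 8) (nat_lit 0x4e0064002c000a0070000e00040016) (Net.cons (nat_lit 16) (nat_lit 0x41b00000a20400008ec000001434) (Net.cons (nat_lit 32) (nat_lit 0x95fb7dd800000000288e1a90) (Net.cons (nat_lit 64) (nat_lit 0x18ac3c0812f73af2) Net.nil)))))))))))))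
noncomputable def n20 : Net := (Net.cons (nat_lit 64) (nat_lit 0x458802e410529849) (Net.cons (nat_lit 32) (nat_lit 0x4aa41b4800000000b66c047c) (Net.cons (nat_lit 16) (nat_lit 0x1a480000d6fc0000947c0000002c) (Net.cons (nat_lit 8) (nat_lit 0xe400820036004400620044008200e0) (Net.cons (nat_lit 4) (nat_lit 0x90008040d0a000b0207090c03080308) (Net.cons (nat_lit 2) (nat_lit 0x13000220100330013020020000220313) (Net.cons (nat_lit 1) (nat_lit 0x14040140154540504441414010111404) (Net.cons (nat_lit 2) (nat_lit 0x20000020000000000222220000220000) (Net.cons (nat_lit 4) (nat_lit 0x4000004080200060406000802000008) (Net.cons (nat_lit 8) (nat_lit 0xec0080001000140068002c009800e0) (Net.cons (nat_lit 16) (nat_lit 0x13440000126c000004000000123c) (Net.cons (nat_lit 32) (nat_lit 0x4b241b8400000000b47f0460) (Net.cons (nat_lit 64) (nat_lit 0x458802e81a1d0036) Net.nil)))))))))))))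
noncomputable def n21 : Net := (Net.cons (nat_lit 64) (nat_lit 0x1484c2a51be87d20) (Net.cons (nat_lit 32) (nat_lit 0x1eaf1846000000004c738bc8) (Net.cons (nat_lit 16) (nat_lit 0x96260000f304000048d90000d7ea) (Net.cons (nat_lit 8) (nat_lit 0x12002800d0008c00e90057002e004f) (Net.cons (nat_lit 4) (nat_lit 0x803040a030002040e0207040b0a0106) (Net.cons (nat_lit 2) (nat_lit 0x2011023130020100022010330122103) (Net.cons (nat_lit 1) (nat_lit 0x41441440015504101010151440411) (Net.cons (nat_lit 2) (nat_lit 0x20022220020000002000000020002) (Net.cons (nat_lit 4) (nat_lit 0x802040e00000a0402080200080a0a0e) (Net.cons (nat_lit 8) (nat_lit 0x18002e009000ac00c00002001e00d4) (Net.cons (nat_lit 16) (nat_lit 0x8c280000d6900000e0c80000eec0) (Net.cons (nat_lit 32) (nat_lit 0xeab5ac00000000064299e94) (Net.cons (nat_lit 64) (nat_lit 0x1484c2a592fa2510) Net.nil)))))))))))))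
noncomputable def n22 : Net := (Net.cons (nat_lit 64) (nat_lit 0x46ea26453f182583) (Net.cons (nat_lit 32) (nat_lit 0xc28f9cfd00000000ae638a80) (Net.cons (nat_lit 16) (nat_lit 0x94bb000009780000d68c00001530) (Net.cons (nat_lit 8) (nat_lit 0x14004000de005f00fd00ac0029002a) (Net.cons (nat_lit 4) (nat_lit 0x80f0608040201020308040d04010501) (Net.cons (nat_lit 2) (nat_lit 0x30202033012011300300230012123) (Net.cons (nat_lit 1) (nat_lit 0x4444001014004014011404150041101) (Net.cons (nat_lit 2) (nat_lit 0x2220002022000000020200200002002) (Net.cons (nat_lit 4) (nat_lit 0x80a00000c0600020400060400000c08) (Net.cons (nat_lit 8) (nat_lit 0x4004000dc0052009c00bc003800b2) (Net.cons (nat_lit 16) (nat_lit 0x941000004c3200004ca800008c20) (Net.cons (nat_lit 32) (nat_lit 0xc22598f800000000a7668a80) (Net.cons (nat_lit 64) (nat_lit 0x46ea264126187590) Net.nil)))))))))))))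
noncomputable def n23 : Net := (Net.cons (nat_lit 64) (nat_lit 0x109220cbaa2562e) (Net.cons (nat_lit 32) (nat_lit 0x205acb0200000000ef917a5c) (Net.cons (nat_lit 16) (nat_lit 0x611300000b84000026ed000003c6) (Net.cons (nat_lit 8) (nat_lit 0x420082000200520008007100ec0058) (Net.cons (nat_lit 4) (nat_lit 0x2000200080c0604030a0c070b0c0400) (Net.cons (nat_lit 2) (nat_lit 0x20000023000023200203030311322233) (Net.cons (nat_lit 1) (nat_lit 0x41000114044141404140014405101441) (Net.cons (nat_lit 2) (nat_lit 0x20000222002022202200000200202222) (Net.cons (nat_lit 4) (nat_lit 0x208080e0404040e0a020a0c0804) (Net.cons (nat_lit 8) (nat_lit 0x200800082004400e8001400e4000a) (Net.cons (nat_lit 16) (nat_lit 0x4012000019a00000a8a80000c318) (Net.cons (nat_lit 32) (nat_lit 0x205bc902000000002935b338) (Net.cons (nat_lit 64) (nat_lit 0x1092208bae3710c) Net.nil)))))))))))))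
noncomputable def n24 : Net := (Net.cons (nat_lit 64) (nat_lit 0x5603a2113073970e) (Net.cons (nat_lit 32) (nat_lit 0x9a61f33200000000ddf609a0) (Net.cons (nat_lit 16) (nat_lit 0xc4610000164d0000419400001d88) (Net.cons (nat_lit 8) (nat_lit 0xda00c000dc0006000400750020000a) (Net.cons (nat_lit 4) (nat_lit 0x401080f0004090c020a0503050809) (Net.cons (nat_lit 2) (nat_lit 0x31003010130023002321021320010) (Net.cons (nat_lit 1) (nat_lit 0x110145140100051044140001414104) (Net.cons (nat_lit 2) (nat_lit 0x20000220000002020220000220002) (Net.cons (nat_lit 4) (nat_lit 0xe040e06000c0808080e00020c0808) (Net.cons (nat_lit 8) (nat_lit 0xd8009400dc00140040002400240002) (Net.cons (nat_lit 16) (nat_lit 0x444000001258000048d800009c2c) (Net.cons (nat_lit 32) (nat_lit 0x8863f12400000000dcd61c84) (Net.cons (nat_lit 64) (nat_lit 0x5603a21110639502) Net.nil)))))))))))))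
noncomputable def n25 : Net := (Net.cons (nat_lit 64) (nat_lit 0x46ea26453f182583) (Net.cons (nat_lit 32) (nat_lit 0xc28f9cfd00000000ae638a80) (Net.cons (nat_lit 16) (nat_lit 0x94bb000009780000d68c00001530) (Net.cons (nat_lit 8) (nat_lit 0x14004000de005f00fd00ac0029002a) (Net.cons (nat_lit 4) (nat_lit 0x80f0608040201020308040d04010501) (Net.cons (nat_lit 2) (nat_lit 0x30202033012011300300230012123) (Net.cons (nat_lit 1) (nat_lit 0x4444001014004014011404150041101) (Net.cons (nat_lit 2) (nat_lit 0x2220002022000000020200200002002) (Net.cons (nat_lit 4) (nat_lit 0x80a00000c0600020400060400000c08) (Net.cons (nat_lit 8) (nat_lit 0x4004000dc0052009c00bc003800b2) (Net.cons (nat_lit 16) (nat_lit 0x941000004c3200004ca800008c20) (Net.cons (nat_lit 32) (nat_lit 0xc22598f800000000a7668a80) (Net.cons (nat_lit 64) (nat_lit 0x46ea264126187590) Net.nil)))))))))))))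
noncomputable def n26 : Net := (Net.cons (nat_lit 64) (nat_lit 0x95f1d23e8c2388f0) (Net.cons (nat_lit 32) (nat_lit 0x18f1526300000000695bce1d) (Net.cons (nat_lit 16) (nat_lit 0xcab0000072180000a60e00008d2e) (Net.cons (nat_lit 8) (nat_lit 0xa5000800b500ce00d30018003c0042) (Net.cons (nat_lit 4) (nat_lit 0x701080706040e0a01000e0c06000a08) (Net.cons (nat_lit 2) (nat_lit 0x1210022113020202003020222003222) (Net.cons (nat_lit 1) (nat_lit 0x11100050104441154540144141141401) (Net.cons (nat_lit 2) (nat_lit 0x200000202220202000220222222002) (Net.cons (nat_lit 4) (nat_lit 0x40000020000060e000c0c0000000408) (Net.cons (nat_lit 8) (nat_lit 0xf400080016004800de0058001c00ee) (Net.cons (nat_lit 16) (nat_lit 0x5aa0000071820000e40800008506) (Net.cons (nat_lit 32) (nat_lit 0xce0824200000000215bea90) (Net.cons (nat_lit 64) (nat_lit 0x95f1d23b7896c10c) Net.nil)))))))))))))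
noncomputable def n27 : Net := (Net.cons (nat_lit 64) (nat_lit 0xa720e00124a41300) (Net.cons (nat_lit 32) (nat_lit 0x456042800000000019468520) (Net.cons (nat_lit 16) (nat_lit 0xc080000009a400001b900000a682) (Net.cons (nat_lit 8) (nat_lit 0x40002800280028004400b90090001c) (Net.cons (nat_lit 4) (nat_lit 0x80000020c00040e0204050d0e0c080a) (Net.cons (nat_lit 2) (nat_lit 0x20200200020212222120200200300220) (Net.cons (nat_lit 1) (nat_lit 0x45004000401401004015404054005015) (Net.cons (nat_lit 2) (nat_lit 0x20000000000202002020200000000020) (Net.cons (nat_lit 4) (nat_lit 0x80000000c0004000204040c020c080a) (Net.cons (nat_lit 8) (nat_lit 0x40002800280028004400a80090001c) (Net.cons (nat_lit 16) (nat_lit 0xc0800000098400001b900000a200) (Net.cons (nat_lit 32) (nat_lit 0x456002800000000019468520) (Net.cons (nat_lit 64) (nat_lit 0xa720e00124a41300) Net.nil)))))))))))))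
noncomputable def n28 : Net := (Net.cons (nat_lit 64) (nat_lit 0x83251c94bc9c3604) (Net.cons (nat_lit 32) (nat_lit 0x5dc577dd000000005fc2a62f) (Net.cons (nat_lit 16) (nat_lit 0xedb0000bd0a0000d46e00003b15) (Net.cons (nat_lit 8) (nat_lit 0x7d0083000e002f0094001000ce0070) (Net.cons (nat_lit 4) (nat_lit 0x10206040c030e00090200000d070809) (Net.cons (nat_lit 2) (nat_lit 0x322101120322200000201011320002) (Net.cons (nat_lit 1) (nat_lit 0x51411501400441001444400114401050) (Net.cons (nat_lit 2) (nat_lit 0x2222000000002000202200000200000) (Net.cons (nat_lit 4) (nat_lit 0xc0a060004000c000a08040008040000) (Net.cons (nat_lit 8) (nat_lit 0x2e0082000c000e00900012005a00a0) (Net.cons (nat_lit 16) (nat_lit 0x109a0000bd100000d66c0000ab6c) (Net.cons (nat_lit 32) (nat_lit 0x5ee577d4000000005f426420) (Net.cons (nat_lit 64) (nat_lit 0x83251c9b38e9f504) Net.nil)))))))))))))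
noncomputable def n29 : Net := (Net.cons (nat_lit 64) (nat_lit 0x344491155a45d5) (Net.cons (nat_lit 32) (nat_lit 0xde1845d200000000b85c2a13) (Net.cons (nat_lit 16) (nat_lit 0x16b4000008920000bd8a00000b47) (Net.cons (nat_lit 8) (nat_lit 0xd00042003a004400fc00bc002b00c9) (Net.cons (nat_lit 4) (nat_lit 0xc040b010c040f08010d020f0a0d0e) (Net.cons (nat_lit 2) (nat_lit 0x20000311000010311220021130230200) (Net.cons (nat_lit 1) (nat_lit 0x14040410014010414411510101415104) (Net.cons (nat_lit 2) (nat_lit 0x20000220002020000200000000000202) (Net.cons (nat_lit 4) (nat_lit 0x80000080204060c0c080c0008000804) (Net.cons (nat_lit 8) (nat_lit 0xd00012003a00c600f40004000c00aa) (Net.cons (nat_lit 16) (nat_lit 0x56a00000080600009dc000001d6c) (Net.cons (nat_lit 32) (nat_lit 0xde3c01dc0000000028d4b214) (Net.cons (nat_lit 64) (nat_lit 0x344491b1afa912) Net.nil)))))))))))))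
noncomputable def n30 : Net := (Net.cons (nat_lit 64) (nat_lit 0x865c5ec4defd984b) (Net.cons (nat_lit 32) (nat_lit 0xa6c31f9600000000d426c360) (Net.cons (nat_lit 16) (nat_lit 0x1d0600001b600000641e00002e3b) (Net.cons (nat_lit 8) (nat_lit 0x77000a000800e9000e00e700600030) (Net.cons (nat_lit 4) (nat_lit 0xb0704010c08060a040b00000401000c) (Net.cons (nat_lit 2) (nat_lit 0x10320012303011200300002310002230) (Net.cons (nat_lit 1) (nat_lit 0x10500444100041441401014404101001) (Net.cons (nat_lit 2) (nat_lit 0x2200020200002000200202002) (Net.cons (nat_lit 4) (nat_lit 0x60400000c0c0c08000a00020408000c) (Net.cons (nat_lit 8) (nat_lit 0xe8000a004000e2000e00a000600010) (Net.cons (nat_lit 16) (nat_lit 0x1f080000936c0000e43c00002e20) (Net.cons (nat_lit 32) (nat_lit 0xa6d3519400000000d487c350) (Net.cons (nat_lit 64) (nat_lit 0x865c5ec8be4c7920) Net.nil)))))))))))))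
noncomputable def n31 : Net := (Net.cons (nat_lit 64) (nat_lit 0x2202b0bad74325bf) (Net.cons (nat_lit 32) (nat_lit 0xa6a11a8c00000000122fb89b) (Net.cons (nat_lit 16) (nat_lit 0x8e320000a36e0000125800003596) (Net.cons (nat_lit 8) (nat_lit 0xa8002c008c001400680088008f00d9) (Net.cons (nat_lit 4) (nat_lit 0xa010602040c000a040204040002070c) (Net.cons (nat_lit 2) (nat_lit 0x2021223212000333202003303003030) (Net.cons (nat_lit 1) (nat_lit 0x104004401410414011141405051550) (Net.cons (nat_lit 2) (nat_lit 0x2200000022022022200002000) (Net.cons (nat_lit 4) (nat_lit 0x8000c000406020e00020400040a000c) (Net.cons (nat_lit 8) (nat_lit 0x800a800cc005000ee005000c600b0) (Net.cons (nat_lit 16) (nat_lit 0x2c100000d3360000080400007592) (Net.cons (nat_lit 32) (nat_lit 0xa4a38a80000000000286f0d2) (Net.cons (nat_lit 64) (nat_lit 0x2202b0ba8995defa) Net.nil)))))))))))))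
noncomputable def n32 : Net := (Net.cons (nat_lit 64) (nat_lit 0x104218e2e20fe205) (Net.cons (nat_lit 32) (nat_lit 0x8e1509c0000000020240d14) (Net.cons (nat_lit 16) (nat_lit 0x505e000050080000e62600005e17) (Net.cons (nat_lit 8) (nat_lit 0x1c001800a60061009e0014003200ca) (Net.cons (nat_lit 4) (nat_lit 0x40a000a01040f0604080d04060a0005) (Net.cons (nat_lit 2) (nat_lit 0x10200030002001231200022210130203) (Net.cons (nat_lit 1) (nat_lit 0x4110040014445410104514140411401) (Net.cons (nat_lit 2) (nat_lit 0x20000000200220200002220002200) (Net.cons (nat_lit 4) (nat_lit 0x4000008000402060808040404060404) (Net.cons (nat_lit 8) (nat_lit 0x4c001800a200e0001c001000e600bc) (Net.cons (nat_lit 16) (nat_lit 0x58be0000514a0000e7260000bea2) (Net.cons (nat_lit 32) (nat_lit 0x18a140f0000000008638cb08) (Net.cons (nat_lit 64) (nat_lit 0x104218e62a09e214) Net.nil)))))))))))))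
noncomputable def n33 : Net := (Net.cons (nat_lit 64) (nat_lit 0x3571c6a179e3ea40) (Net.cons (nat_lit 32) (nat_lit 0xf3c92280000000081d84e51) (Net.cons (nat_lit 16) (nat_lit 0x344c000014800000ab96000010be) (Net.cons (nat_lit 8) (nat_lit 0x200cc00b000160042004600200066) (Net.cons (nat_lit 4) (nat_lit 0x404020a0f02080708000909000f000a) (Net.cons (nat_lit 2) (nat_lit 0x10201223032013012002121202000302) (Net.cons (nat_lit 1) (nat_lit 0x414441010054014004040510514401) (Net.cons (nat_lit 2) (nat_lit 0x222022000000000000000000020200) (Net.cons (nat_lit 4) (nat_lit 0x4060c080e00060208000804000c000a) (Net.cons (nat_lit 8) (nat_lit 0x1a006800f000be004000c000200066) (Net.cons (nat_lit 16) (nat_lit 0x2244000050700000a99c0000909a) (Net.cons (nat_lit 32) (nat_lit 0x1b7cd4060000000081584e50) (Net.cons (nat_lit 64) (nat_lit 0x3571c6af73e2a94c) Net.nil)))))))))))))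
noncomputable def n34 : Net := (Net.cons (nat_lit 64) (nat_lit 0xb1162c5cac9c3e42) (Net.cons (nat_lit 32) (nat_lit 0x2e846ab9000000009e5f873c) (Net.cons (nat_lit 16) (nat_lit 0xe31c0000e1280000c37000003208) (Net.cons (nat_lit 8) (nat_lit 0x9e001d00460025000c004e00e40004) (Net.cons (nat_lit 4) (nat_lit 0x40e0b0200000900030702080a08040e) (Net.cons (nat_lit 2) (nat_lit 0x32200202330031211120100132202223) (Net.cons (nat_lit 1) (nat_lit 0x10501144440054441451100440400404) (Net.cons (nat_lit 2) (nat_lit 0x20000002220000200002200020000202) (Net.cons (nat_lit 4) (nat_lit 0xe0808000004020a040e08080c000e) (Net.cons (nat_lit 8) (nat_lit 0x94003c00460010009a005c00e40086) (Net.cons (nat_lit 16) (nat_lit 0xe10c0000e02c0000514800003000) (Net.cons (nat_lit 32) (nat_lit 0x8e946eb6000000009a97d736) (Net.cons (nat_lit 64) (nat_lit 0xb1162c50aa0e7d5a) Net.nil)))))))))))))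
noncomputable def n35 : Net := (Net.cons (nat_lit 64) (nat_lit 0x44c4a03918e0c5e) (Net.cons (nat_lit 32) (nat_lit 0x2446aa0a0000000084eee706) (Net.cons (nat_lit 16) (nat_lit 0x22020000053d000060060000f9b3) (Net.cons (nat_lit 8) (nat_lit 0x2c00c0003000d2009600ad003a0035) (Net.cons (nat_lit 4) (nat_lit 0x2080c070c040d070000000a080f07) (Net.cons (nat_lit 2) (nat_lit 0x2003130312021012003302020311) (Net.cons (nat_lit 1) (nat_lit 0x4000005540140445044144410114444) (Net.cons (nat_lit 2) (nat_lit 0x2000000000200020020022200220200) (Net.cons (nat_lit 4) (nat_lit 0x8000000040c020e0a000a000a00) (Net.cons (nat_lit 8) (nat_lit 0x2c00c0003400860000000800380048) (Net.cons (nat_lit 16) (nat_lit 0x206000001980000f3600000e182) (Net.cons (nat_lit 32) (nat_lit 0x2446a20400000000a6dce738) (Net.cons (nat_lit 64) (nat_lit 0x44c4a0e91a08e72) Net.nil)))))))))))))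
noncomputable def n36 : Net := (Net.cons (nat_lit 64) (nat_lit 0xb1162c50aa0e7d5a) (Net.cons (nat_lit 32) (nat_lit 0x716a1149000000009a97d736) (Net.cons (nat_lit 16) (nat_lit 0xe06c0000b3820000514800009200) (Net.cons (nat_lit 8) (nat_lit 0x4600cd000a004f009a004a00dc004a) (Net.cons (nat_lit 4) (nat_lit 0xe000a060a050b0c0d04040202) (Net.cons (nat_lit 2) (nat_lit 0x11002333020000113321001220102221) (Net.cons (nat_lit 1) (nat_lit 0x11004151041014451415400104104001) (Net.cons (nat_lit 2) (nat_lit 0x2202022020202200000002002000) (Net.cons (nat_lit 4) (nat_lit 0x80002080a0c08000c04000004) (Net.cons (nat_lit 8) (nat_lit 0x46009800080082000c00dc003c002a) (Net.cons (nat_lit 16) (nat_lit 0xc1280000bf000000c3700000b280) (Net.cons (nat_lit 32) (nat_lit 0xd17a1546000000009e5f873c) (Net.cons (nat_lit 64) (nat_lit 0xb1162c5cac9c3e42) Net.nil)))))))))))))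
noncomputable def n37 : Net := (Net.cons (nat_lit 64) (nat_lit 0x452b80e4b821682) (Net.cons (nat_lit 32) (nat_lit 0xe906040000000009ceb3878) (Net.cons (nat_lit 16) (nat_lit 0x9850000057c60000b2240000f618) (Net.cons (nat_lit 8) (nat_lit 0x20060009800c0004d00a6005c00a2) (Net.cons (nat_lit 4) (nat_lit 0xa000802030808040b02040f0e0c0c03) (Net.cons (nat_lit 2) (nat_lit 0x31200000212201001312000313) (Net.cons (nat_lit 1) (nat_lit 0x10004041141440445401404511041150) (Net.cons (nat_lit 2) (nat_lit 0x20000220020202202002000200) (Net.cons (nat_lit 4) (nat_lit 0x20008020208080a0808040406080e0a) (Net.cons (nat_lit 8) (nat_lit 0x800060003a00c0006e00b800d800a2) (Net.cons (nat_lit 16) (nat_lit 0x9810000053c00000b8e40000b700) (Net.cons (nat_lit 32) (nat_lit 0xe80604a000000003f673ce0) (Net.cons (nat_lit 64) (nat_lit 0x452b80e4b87d58e) Net.nil)))))))))))))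
noncomputable def n38 : Net := (Net.cons (nat_lit 64) (nat_lit 0x66820d92f900680) (Net.cons (nat_lit 32) (nat_lit 0x2e201e000000000b082cc88) (Net.cons (nat_lit 16) (nat_lit 0x270c000076480000800800001bea) (Net.cons (nat_lit 8) (nat_lit 0x4800600048008000800068001c0070) (Net.cons (nat_lit 4) (nat_lit 0x60008020e0408000804080a0a0d) (Net.cons (nat_lit 2) (nat_lit 0x22222222221032230202000300200031) (Net.cons (nat_lit 1) (nat_lit 0x41044410400150151100144501010541) (Net.cons (nat_lit 2) (nat_lit 0x22022220200000200200000000000020) (Net.cons (nat_lit 4) (nat_lit 0x8020e0408000804000a0a02) (Net.cons (nat_lit 8) (nat_lit 0x480060004000800080006800080070) (Net.cons (nat_lit 16) (nat_lit 0x270c000076480000800800001baa) (Net.cons (nat_lit 32) (nat_lit 0x2e201e000000000b082cc88) (Net.cons (nat_lit 64) (nat_lit 0x66820d92f900680) Net.nil)))))))))))))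
noncomputable def n39 : Net := (Net.cons (nat_lit 64) (nat_lit 0xa02420061d7a4140) (Net.cons (nat_lit 32) (nat_lit 0xf485e08000000000314bc100) (Net.cons (nat_lit 16) (nat_lit 0x4820000be2000002a040000e880) (Net.cons (nat_lit 8) (nat_lit 0x600048004400cc009900d800800080) (Net.cons (nat_lit 4) (nat_lit 0x60c0c0c080402060007080600040e) (Net.cons (nat_lit 2) (nat_lit 0x202002322221200213330203002000) (Net.cons (nat_lit 1) (nat_lit 0x10014001040440115105411115101000) (Net.cons (nat_lit 2) (nat_lit 0x2002020220200200000200002000) (Net.cons (nat_lit 4) (nat_lit 0x204080c0804020600080806000000) (Net.cons (nat_lit 8) (nat_lit 0x600048004400c4009000d800000080) (Net.cons (nat_lit 16) (nat_lit 0x4820000be2000002a040000e880) (Net.cons (nat_lit 32) (nat_lit 0xf485e08000000000314bc100) (Net.cons (nat_lit 64) (nat_lit 0xa02420061d7a4140) Net.nil)))))))))))))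
noncomputable def n40 : Net := (Net.cons (nat_lit 64) (nat_lit 0x9016e8250021c100) (Net.cons (nat_lit 32) (nat_lit 0x701210a00000000005e0b9c0) (Net.cons (nat_lit 16) (nat_lit 0xd8000000ff3a000016c000007264) (Net.cons (nat_lit 8) (nat_lit 0x5000c800c000600000000e00440082) (Net.cons (nat_lit 4) (nat_lit 0x204080404080a04060002000e000e06) (Net.cons (nat_lit 2) (nat_lit 0x22120001203010121020232331000221) (Net.cons (nat_lit 1) (nat_lit 0x10041040050405010000051050001040) (Net.cons (nat_lit 2) (nat_lit 0x20020000000000020000002000000020) (Net.cons (nat_lit 4) (nat_lit 0x204000404080a04040002000e000a06) (Net.cons (nat_lit 8) (nat_lit 0x5000c800c000600000000e00440082) (Net.cons (nat_lit 16) (nat_lit 0xd8000000ff380000168000007040) (Net.cons (nat_lit 32) (nat_lit 0x701210a00000000005e0b9c0) (Net.cons (nat_lit 64) (nat_lit 0x9016e8250020c100) Net.nil)))))))))))))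
noncomputable def n41 : Net := (Net.cons (nat_lit 64) (nat_lit 0xa108004526339203) (Net.cons (nat_lit 32) (nat_lit 0x619821000000000062014804) (Net.cons (nat_lit 16) (nat_lit 0x60900000f5600000b6000000a0e0) (Net.cons (nat_lit 8) (nat_lit 0x8004800540085009400d8002600c8) (Net.cons (nat_lit 4) (nat_lit 0xa0604090c0e060a080500020c0c) (Net.cons (nat_lit 2) (nat_lit 0x22000001020222100023001300201000) (Net.cons (nat_lit 1) (nat_lit 0x1004150444441011040100010100101) (Net.cons (nat_lit 2) (nat_lit 0x2000000020220020020000020000000) (Net.cons (nat_lit 4) (nat_lit 0xa0604080c0c020a000002000402) (Net.cons (nat_lit 8) (nat_lit 0x8004800540006009400d800900040) (Net.cons (nat_lit 16) (nat_lit 0x60900000f5600000b6000000a0a0) (Net.cons (nat_lit 32) (nat_lit 0x619821000000000062014804) (Net.cons (nat_lit 64) (nat_lit 0xa108004526139200) Net.nil)))))))))))))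
noncomputable def n42 : Net := (Net.cons (nat_lit 64) (nat_lit 0xa399e80158de4381) (Net.cons (nat_lit 32) (nat_lit 0x2f1b2acb00000000f839caae) (Net.cons (nat_lit 16) (nat_lit 0x848e00009e1900002a99000063b6) (Net.cons (nat_lit 8) (nat_lit 0x8f002e00050048004a00f1004a000a) (Net.cons (nat_lit 4) (nat_lit 0x2080c00030402000a04020105060204) (Net.cons (nat_lit 2) (nat_lit 0x21000223203002101032100331102321) (Net.cons (nat_lit 1) (nat_lit 0x1010401155011011440015441104140) (Net.cons (nat_lit 2) (nat_lit 0x2200002000020020020202200) (Net.cons (nat_lit 4) (nat_lit 0x2000c060a0800060e0c0204040e0600) (Net.cons (nat_lit 8) (nat_lit 0x4006c00e80058004800bc005c000e) (Net.cons (nat_lit 16) (nat_lit 0xae0e0000af080000f2fa00007770) (Net.cons (nat_lit 32) (nat_lit 0xf0bcace00000000f81fddba) (Net.cons (nat_lit 64) (nat_lit 0xa399e805797ef2b0) Net.nil)))))))))))))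
noncomputable def nl2 : List Net := [n11, n12, n13, n14, n15, n16, n17, n18, n19, n20, n21, n22, n23, n24, n25, n26, n27, n28, n29, n30, n31, n32, n33, n34, n35, n36, n37, n38, n39, n40, n41, n42]
theorem nl2_ok : allL (Net.ok (nat_lit 128)) nl2 = true := by decide +kernel
noncomputable def nl : List Net := [H6M.MHS.n0, H6M.MHS.n1, H6M.MHS.n2, H6M.MHS.n3, H6M.MHS.n4, H6M.MHS.n5, H6M.MHS.n6, H6M.MHS.n7, H6M.MHS.n8, H6M.MHS.n9, H6M.MHS.n10, n11, n12, n13, n14, n15, n16, n17, n18, n19, n20, n21, n22, n23, n24, n25, n26, n27, n28, n29, n30, n31, n32, n33, n34, n35, n36, n37, n38, n39, n40, n41, n42]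
theorem nl_ok : allL (Net.ok (nat_lit 128)) nl = true := allL_append H6M.MHS.nl_ok nl2_ok
noncomputable def R : Rep := mkRep (nat_lit 7) (nat_lit 128) nl (by decide +kernel) nl_ok
def defs : List (List ℕ) := [[2, 0, 2, 5, 4, 5, 4, 4, 5, 4, 7, 6, 9, 8, 9, 8, 8, 10, 10], [0, 0, 0, 0, 2, 0, 4, 4, 5, 4, 5, 4, 6, 7, 6, 6, 9, 8, 9, 9, 9], [0, 2, 2, 2, 0, 0, 0, 2, 0, 4, 5, 5, 4, 4, 6, 7, 7, 9, 8, 9, 10, 10], [11, 11, 11, 12], [13, 12, 11, 12], [15, 14, 15, 14, 15, 14, 15, 14], [15, 14, 14, 15, 14, 15, 14, 14, 15, 15], [16, 17, 17, 17, 17, 16], [16, 16, 17, 16, 17, 16, 17], [18, 18, 19, 18, 19, 19, 19, 19], [18, 18, 19, 19, 19, 18, 18, 19, 19, 18], [20, 21, 21, 20, 21, 20, 21, 20, 21, 20, 21, 20, 21, 20], [21, 20, 21, 20, 20, 21, 20, 21, 21, 21, 20, 20, 21, 21, 20, 20, 21], [20, 21, 20, 20, 20, 21, 20, 20, 20, 21, 20, 21, 21, 20, 20, 21, 20], [23, 23, 23, 22], [15, 15, 15, 14, 14, 14], [15, 15, 15, 15, 15, 15], [26, 27, 26, 26, 27, 26, 26], [26, 26, 26, 27, 26, 26, 26], [29,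 29, 29, 29, 28, 29, 28, 29], [29, 29, 28, 28, 29, 29, 29, 28], [30, 31, 31, 31, 30, 31, 30, 30, 30, 31, 30, 30, 30], [30, 31, 30, 31, 31, 30, 31, 31, 30, 30, 31, 31, 31], [31, 30, 31, 31, 31, 30, 30, 30, 30, 30, 30, 30, 31, 31, 30, 30], [33, 34, 32, 32, 32, 32, 33, 34, 34, 33, 33, 34, 34, 34], [33, 32, 33, 32, 32, 33, 32, 33, 34, 34, 33, 34, 34, 33, 33], [33, 33, 32, 33, 32, 33, 33, 34, 34, 32, 33, 33, 33, 34], [35, 37, 36, 36, 37, 35, 37, 37, 37, 36, 37, 35, 36, 37], [37, 37, 37, 35, 36, 36, 35, 36, 37, 35, 36, 35, 37, 37], [37, 36, 36, 36, 37, 37, 36, 36, 36, 36, 37, 35, 35, 35], [35, 37, 36, 35, 37, 37, 37, 36, 36, 35, 35, 35, 36, 37], [0, 2, 2, 2, 0, 5, 5, 4, 4, 7, 6, 6, 6, 7, 9, 8, 9, 8, 10, 10]]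
def xch : List Model.Lev := [(33, [[14], [15]], 100), (23, [[16], [17]], 22), (94, [[18], [19]], 21), (83, [[20], [21]], 20), (29, [[22], [23], [24]], 16), (5, [[25]], 3)]
def xCg : List (List ℕ) := [[11]]
def xL15 : List Leaf := [([60, 66, 93, 9, 8], [20, 21, 20, 20, 19, 18, 18, 19, 18, 16, 17, 16, 17, 17], 86, 0, 2, 0)]
def xc16 : List ℕ := [8, 23]
noncomputable def xD0 : ℕ := Nat.xor (ival 0 100) (bitsL [33])
def xc19 : List ℕ := [33]
noncomputable def xOT : OTab := [([83, 94, 23, 33], xO0), ([33], xO1), ([], xO2)]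
def ych : List Model.Lev := [(40, [[14], [15]], 100), (62, [[26], [27]], 22), (24, [[28], [29]], 21), (59, [[30], [31]], 5), (48, [[32], [33], [34]], 4), (91, [[35], [36], [37]], 3), (33, [[38], [39], [40], [41]], 16)]
def yCg : List (List ℕ) := [[12], [42]]
noncomputable def yD4 : ℕ := Nat.xor (ival 0 100) (bitsL [24, 33, 40, 62, 93])
def yc45 : List ℕ := [33]
def yc47 : List ℕ := [59]
noncomputable def yD2 : ℕ := Nat.xor (ival 0 100) (bitsL [24, 33, 40, 62, 93])
def yc50 : List ℕ := [24]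
def yL52 : List Leaf := [([91, 48, 59, 89], [36, 33, 32, 31, 30, 28, 29, 29, 29, 26, 27, 26, 26], 89, 3, 0, 0)]
def yc53 : List ℕ := [89]
def yc55 : List ℕ := [62]
noncomputable def yD1 : ℕ := Nat.xor (ival 0 100) (bitsL [24, 33, 40, 62, 93])
def yc58 : List ℕ := [24, 62]
noncomputable def yD0 : ℕ := Nat.xor (ival 0 100) (bitsL [24, 33, 40, 62, 93])
def yc61 : List ℕ := [40]
noncomputable def yOT : OTab := [([91, 48, 59, 24, 62, 40], yO0), ([24, 62, 40], yO1), ([62, 40], yO2), ([91, 48, 59, 24, 62, 40], yO3), ([40], yO4), ([], yO5)]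
def CL : List (List ℕ) := [[], [12], [42], [12, 12], [42, 12], [42, 42], [12, 12, 12], [42, 12, 12], [42, 42, 12], [42, 42, 42], [12, 12, 12, 12], [42, 12, 12, 12], [42, 42, 12, 12], [42, 42, 42, 12], [42, 42, 42, 42], [42, 12, 12, 12, 12], [42, 42, 12, 12, 12], [42, 42, 42, 12, 12], [42, 42, 42, 42, 12], [42, 42, 12, 12, 12, 12], [42, 42, 42, 12, 12, 12], [42, 42, 42, 42, 12, 12], [42, 42, 42, 12, 12, 12, 12], [42, 42, 42, 42, 12, 12, 12], [42, 42, 42, 42, 12, 12, 12, 12]]
def RL : List (List ℕ) := [[0, 0, 2, 2, 0, 0, 2, 2, 0, 0, 2, 2], [0, 2, 1, 0, 2, 1, 0, 2, 1, 0, 2, 1, 0, 2, 1, 0, 2, 1, 0, 2, 1], [0, 0, 1, 2, 1, 0, 0, 1, 2, 1, 0, 0, 1, 2, 1, 0, 0, 1, 2, 1, 0, 0, 1, 2, 1, 0, 0, 1, 2, 1, 0, 0, 1, 2, 1, 0, 0, 1, 2, 1]]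
def CE : List (List ℕ × List ℕ) := [([12], [12]), ([12, 12], [12, 12]), ([12, 42], [42, 12]), ([12, 12, 12], [12, 12, 12]), ([12, 42, 12], [42, 12, 12]), ([12, 42, 42], [42, 42, 12]), ([12, 12, 12, 12], [12, 12, 12, 12]), ([12, 42, 12, 12], [42, 12, 12, 12]), ([12, 42, 42, 12], [42, 42, 12, 12]), ([12, 42, 42, 42], [42, 42, 42, 12]), ([12, 12, 12, 12, 12], []), ([12, 42, 12, 12, 12], [42, 12, 12, 12, 12]), ([12, 42, 42, 12, 12], [42, 42, 12, 12, 12]), ([12, 42, 42, 42, 12], [42, 42, 42, 12, 12]), ([12, 42, 42, 42, 42], [42, 42, 42, 42, 12]), ([12, 42, 12, 12, 12, 12], [42]), ([12, 42, 42, 12, 12, 12], [42, 42, 12, 12, 12, 12]), ([12, 42, 42, 42, 12, 12], [42, 42, 42, 12, 12, 12]), ([12, 42, 42, 42, 42, 12], [42, 42, 42, 42, 12, 12]), ([12, 42, 42, 12, 12, 12, 12], [42, 42]), ([12, 42, 42, 42, 12, 12, 12], [42, 42, 42, 12, 12, 12, 12]), ([12, 42, 42, 42, 42, 12, 12], [42, 42, 42, 42, 12, 12, 12]), ([12, 42, 42, 42, 12, 12, 12, 12], [42, 42, 42]), ([12, 42, 42, 42, 42,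 12, 12, 12], [42, 42, 42, 42, 12, 12, 12, 12]), ([12, 42, 42, 42, 42, 12, 12, 12, 12], [42, 42, 42, 42]), ([42], [42]), ([42, 12], [42, 12]), ([42, 42], [42, 42]), ([42, 12, 12], [42, 12, 12]), ([42, 42, 12], [42, 42, 12]), ([42, 42, 42], [42, 42, 42]), ([42, 12, 12, 12], [42, 12, 12, 12]), ([42, 42, 12, 12], [42, 42, 12, 12]), ([42, 42, 42, 12], [42, 42, 42, 12]), ([42, 42, 42, 42], [42, 42, 42, 42]), ([42, 12, 12, 12, 12], [42, 12, 12, 12, 12]), ([42, 42, 12, 12, 12], [42, 42, 12, 12, 12]), ([42, 42, 42, 12, 12], [42, 42, 42, 12, 12]), ([42, 42, 42, 42, 12], [42, 42, 42, 42, 12]), ([42, 42, 42, 42, 42], []), ([42, 42, 12, 12, 12, 12], [42, 42, 12, 12, 12, 12]), ([42, 42, 42, 12, 12, 12], [42, 42, 42, 12, 12, 12]), ([42, 42, 42, 42, 12, 12], [42, 42, 42, 42, 12, 12]), ([42, 42, 42, 42, 42, 12], [12]), ([42, 42, 42, 12, 12, 12, 12], [42, 42, 42, 12, 12, 12, 12]), ([42, 42, 42, 42, 12, 12, 12], [42, 42, 42, 42, 12, 12, 12]), ([42, 42, 42, 42, 42, 12, 12], [12, 12]), ([42,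 42, 42, 42, 12, 12, 12, 12], [42, 42, 42, 42, 12, 12, 12, 12]), ([42, 42, 42, 42, 42, 12, 12, 12], [12, 12, 12]), ([42, 42, 42, 42, 42, 12, 12, 12, 12], [12, 12, 12, 12])]
def EL : List Elim := [((1, []), 0, 0, 0), ((1, [12]), 0, 0, 88), ((1, [42]), 0, 0, 88), ((1, [12, 12]), 0, 0, 10), ((1, [42, 12]), 0, 0, 10), ((1, [42, 42]), 0, 0, 10), ((1, [12, 12, 12]), 0, 0, 11), ((1, [42, 12, 12]), 0, 0, 11), ((1, [42, 42, 12]), 0, 0, 11), ((1, [42, 42, 42]), 0, 0, 11), ((1, [12, 12, 12, 12]), 0, 0, 22), ((1, [42, 12, 12, 12]), 0, 0, 22), ((1, [42, 42, 12, 12]), 0, 0, 22), ((1, [42, 42, 42, 12]), 0, 0, 22), ((1, [42, 42, 42, 42]), 0, 0, 22), ((1, [42, 12, 12, 12, 12]), 1, 0, 10), ((1, [42, 42, 12, 12, 12]), 1, 0, 96), ((1, [42, 42, 42, 12, 12]), 2, 0, 39), ((1, [42, 42, 42, 42, 12]), 1, 0, 3), ((1, [42, 42, 12, 12, 12, 12]), 0, 0, 88), ((1, [42, 42, 42, 12, 12, 12]), 0, 0, 88), ((1, [42, 42, 42, 42, 12, 12]), 0, 0, 88), ((1, [42, 42, 42, 12, 12, 12, 12]), 0, 0, 10), ((1, [42,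 42, 42, 42, 12, 12, 12]), 0, 0, 10), ((1, [42, 42, 42, 42, 12, 12, 12, 12]), 0, 0, 11), ((2, []), 0, 0, 87), ((2, [12]), 0, 0, 27), ((2, [42]), 0, 0, 27), ((2, [12, 12]), 0, 0, 76), ((2, [42, 12]), 0, 0, 76), ((2, [42, 42]), 0, 0, 76), ((2, [12, 12, 12]), 0, 0, 41), ((2, [42, 12, 12]), 0, 0, 41), ((2, [42, 42, 12]), 0, 0, 41), ((2, [42, 42, 42]), 0, 0, 41), ((2, [12, 12, 12, 12]), 1, 0, 54), ((2, [42, 12, 12, 12]), 0, 0, 0), ((2, [42, 42, 12, 12]), 1, 0, 65), ((2, [42, 42, 42, 12]), 2, 0, 16), ((2, [42, 42, 42, 42]), 1, 0, 94), ((2, [42, 12, 12, 12, 12]), 0, 0, 87), ((2, [42, 42, 12, 12, 12]), 0, 0, 87), ((2, [42, 42, 42, 12, 12]), 0, 0, 87), ((2, [42, 42, 42, 42, 12]), 0, 0, 87), ((2, [42, 42, 12, 12, 12, 12]), 0, 0, 27), ((2, [42, 42, 42, 12, 12, 12]), 0, 0, 27), ((2, [42, 42, 42, 42, 12, 12]), 0, 0, 27), ((2, [42, 42, 42, 12, 12, 12, 12]), 0, 0, 76), ((2, [42, 42, 42, 42, 12, 12, 12]), 0, 0, 76), ((2, [42, 42, 42, 42, 12, 12, 12, 12]), 0, 0, 41)]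
def NL : List (List ℕ × Bool × ℕ × ℕ × ℕ) := [([], false, 0, 12, 81), ([12], false, 0, 47, 4), ([42], false, 0, 14, 97), ([12, 12], false, 0, 43, 76), ([42, 12], false, 0, 99, 26), ([42, 42], false, 0, 0, 98), ([12, 12, 12], false, 0, 7, 63), ([42, 12, 12], false, 0, 68, 6), ([42, 42, 12], false, 0, 32, 69), ([42, 42, 42], false, 0, 6, 79), ([12, 12, 12, 12], false, 0, 36, 46), ([42, 12, 12, 12], false, 0, 77, 68), ([42, 42, 12, 12], false, 0, 50, 8), ([42, 42, 42, 12], false, 0, 75, 19), ([42, 42, 42, 42], false, 0, 60, 99), ([42, 12, 12, 12, 12], false, 0, 26, 14), ([42, 42, 12, 12, 12], false, 0, 72, 66), ([42, 42, 42, 12, 12], false, 0, 13, 50), ([42, 42, 42, 42, 12], false, 0, 67, 77), ([42, 42, 12, 12, 12, 12], false, 0, 64, 9), ([42, 42, 42, 12, 12, 12], false, 0, 61, 59), ([42, 42, 42, 42, 12, 12], false, 0, 74, 62), ([42, 42, 42, 12, 12, 12, 12], false, 0, 97, 34), ([42, 42, 42, 42, 12, 12, 12], false, 0, 9, 61), ([42, 42, 42, 42, 12, 12, 12, 12], false, 0,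 69, 13)]
theorem nl3_ok : allL (Net.ok (nat_lit 128)) (nl ++ [s43]) = true := allL_append nl_ok (by decide +kernel)
noncomputable def R2 : Rep := mkRep (nat_lit 7) (nat_lit 128) (nl ++ [s43]) (by decide +kernel) nl3_ok
theorem c0 : Model.fixP R [29, 83, 94, 23, 33] [[25]] = true := by decide +kernel
theorem c1 : Model.growP R [[25]] [0, 0] 5 3 = true := by decide +kernel
theorem c2 : Model.fixP R [83, 94, 23, 33] [[22], [23], [24]] = true := by decide +kernel
theorem c3 : Model.growP R [[22], [23], [24]] [1, 2, 0, 1, 1, 0] 29 16 = true := by decide +kernel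
theorem c4 : Model.fixP R [94, 23, 33] [[20], [21]] = true := by decide +kernel
theorem c5 : Model.growP R [[20], [21]] [0, 1, 0, 1, 0, 1, 0] 83 20 = true := by decide +kernel
theorem c6 : Model.fixP R [23, 33] [[18], [19]] = true := by decide +kernel
theorem c7 : Model.growP R [[18], [19]] [0, 1, 0, 1, 0, 1, 1, 0, 0] 94 21 = true := by decide +kernel
theorem c8 : Model.fixP R [33] [[16], [17]] = true := by decide +kernel
theorem c9 : Model.growP R [[16], [17]] [0, 1, 0, 1, 0, 1, 0, 1] 23 22 = true := by decide +kernel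
theorem c10 : Model.fixP R [] [[14], [15]] = true := by decide +kernel
theorem c11 : Model.growP R [[14], [15]] [1, 0, 1, 0, 1, 0, 1, 0, 1, 0, 0, 1] 33 100 = true := by decide +kernel
theorem c12 : cycB R (subst [[11]] []) [33] = true := by decide +kernel
theorem c13 : cycB R (subst [[11]] [0]) [5, 29, 83, 94, 23] = true := by decide +kernel
theorem c14 : cycB R (subst [[11]] [0]) [5, 29, 83, 94, 23] = true := by decide +kernel
theorem c15 : allL (leafB R xOT (subst [[11]] [0]) [0, 1, 2, 3, 4, 5] [5, 29, 83, 94, 23] [33] [33]) xL15 = true := by decide +kernel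
theorem c16 : freeB R xOT [[11]] xCg [0] [33] [33] [] 23 0 [([], 23, 1)] [[0]] [0, 0, 0, 0, 0, 0, 0, 0, 0, 0] xc16 = true := by decide +kernel
theorem c17 : cycB R (subst [[11]] []) [33] = true := by decide +kernel
theorem c18 : exclB R (subst [[11]] [0]) 33 xD0 = true := by decide +kernel
theorem c19 : freeB R xOT [[11]] xCg [] [] [] [] 33 xD0 [([], 33, 2)] [[0]] [] xc19 = true := by decide +kernel
theorem c20 : Model.invB R (Model.cgens (xch.drop 0)) xO2 = true := by decide +kernel
theorem c21 : Model.invB R (Model.cgens (xch.drop 1)) xO1 = true := by decide +kernel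
theorem c22 : Model.invB R (Model.cgens (xch.drop 4)) xO0 = true := by decide +kernel
theorem c23 : pairsB R [3, 18, 2, 1, 0] (((xCg.flatMap fun w => [[11]].map fun y => (w ++ y, y ++ w)).drop 0).take 1) = true := by decide +kernel
theorem c24 : Model.fixP R [91, 48, 59, 24, 62, 40] [[38], [39], [40], [41]] = true := by decide +kernel
theorem c25 : Model.growP R [[38], [39], [40], [41]] [0, 1, 2, 3] 33 16 = true := by decide +kernel
theorem c26 : Model.fixP R [48, 59, 24, 62, 40] [[35], [36], [37]] = true := by decide +kernel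
theorem c27 : Model.growP R [[35], [36], [37]] [0, 0] 91 3 = true := by decide +kernel
theorem c28 : Model.fixP R [59, 24, 62, 40] [[32], [33], [34]] = true := by decide +kernel
theorem c29 : Model.growP R [[32], [33], [34]] [1, 0, 0] 48 4 = true := by decide +kernel
theorem c30 : Model.fixP R [24, 62, 40] [[30], [31]] = true := by decide +kernel
theorem c31 : Model.growP R [[30], [31]] [1, 0, 1] 59 5 = true := by decide +kernel
theorem c32 : Model.fixP R [62, 40] [[28], [29]] = true := by decide +kernel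
theorem c33 : Model.growP R [[28], [29]] [0, 1, 0, 1, 0, 1, 0, 1] 24 21 = true := by decide +kernel
theorem c34 : Model.fixP R [40] [[26], [27]] = true := by decide +kernel
theorem c35 : Model.growP R [[26], [27]] [0, 1, 0, 0, 0, 1, 0, 0, 0, 0, 0] 62 22 = true := by decide +kernel
theorem c36 : Model.fixP R [] [[14], [15]] = true := by decide +kernel
theorem c37 : Model.growP R [[14], [15]] [0, 1, 0, 1, 0, 1, 0, 1, 0, 1, 0] 40 100 = true := by decide +kernel
theorem c38 : cycB R (subst [[12]] []) [40] = true := by decide +kernel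
theorem c39 : cycB R (subst [[12]] []) [62] = true := by decide +kernel
theorem c40 : cycB R (subst [[12]] []) [24] = true := by decide +kernel
theorem c41 : cycB R (subst [[12]] [0]) [4, 91, 48, 59] = true := by decide +kernel
theorem c42 : cycB R (subst [[12]] []) [33] = true := by decide +kernel
theorem c43 : cycB R (subst [[12]] []) [33] = true := by decide +kernel
theorem c44 : exclB R (subst [[12]] [0]) 33 yD4 = true := by decide +kernel
theorem c45 : freeB R yOT [[12]] yCg [1, 2, 3, 4, 5, 6] [4, 91, 48, 59, 24, 62, 40] [4, 91, 48, 59, 24, 62, 40] [] 33 yD4 [([], 33, 0)] [] [] yc45 = true := by decide +kernel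
theorem c46 : cycB R (subst [[12]] [0]) [4, 91, 48, 59] = true := by decide +kernel
theorem c47 : freeB R yOT [[12]] yCg [0, 1, 2] [24, 62, 40] [24, 62, 40] [] 59 0 [([], 59, 1)] [[0]] [0, 0, 0, 0] yc47 = true := by decide +kernel
theorem c48 : cycB R (subst [[12]] []) [24] = true := by decide +kernel
theorem c49 : exclB R (subst [[12]] [0]) 24 yD2 = true := by decide +kernel
theorem c50 : freeB R yOT [[12]] yCg [0, 1] [62, 40] [62, 40] [] 24 yD2 [([], 24, 2)] [[0]] [] yc50 = true := by decide +kernel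
theorem c51 : cycB R (subst [[12]] []) [62] = true := by decide +kernel
theorem c52 : allL (leafB R yOT (subst [[12]] [0]) [1, 2, 3, 4, 5, 6] [4, 91, 48, 59] [24, 62, 40] [62, 24, 40]) yL52 = true := by decide +kernel
theorem c53 : freeB R yOT [[12]] yCg [0, 1, 2] [24, 62, 40] [62, 24, 40] [28, 29, 29, 29, 26, 27, 26, 26] 59 0 [([], 59, 1)] [[0]] [0, 0, 0, 0] yc53 = true := by decide +kernel
theorem c54 : cycB R (subst [[12]] []) [62] = true := by decide +kernel
theorem c55 : freeB R yOT [[12]] yCg [0, 1] [62, 40] [24, 40] [26, 27, 26, 26] 24 yD2 [([], 24, 2)] [[0]] [] yc55 = true := by decide +kernel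
theorem c56 : cycB R (subst [[12]] []) [24] = true := by decide +kernel
theorem c57 : exclB R (subst [[12]] [0]) 62 yD1 = true := by decide +kernel
theorem c58 : freeB R yOT [[12]] yCg [0] [40] [40] [] 62 yD1 [([], 62, 4)] [[0]] [] yc58 = true := by decide +kernel
theorem c59 : cycB R (subst [[12]] []) [40] = true := by decide +kernel
theorem c60 : exclB R (subst [[12]] [0]) 40 yD0 = true := by decide +kernel
theorem c61 : freeB R yOT [[12]] yCg [] [] [] [] 40 yD0 [([], 40, 5)] [[0], [1]] [1, 1, 1, 1] yc61 = true := by decide +kernel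
theorem c62 : Model.invB R (Model.cgens (ych.drop 0)) yO5 = true := by decide +kernel
theorem c63 : Model.invB R (Model.cgens (ych.drop 1)) yO4 = true := by decide +kernel
theorem c64 : Model.invB R (Model.cgens (ych.drop 6)) yO3 = true := by decide +kernel
theorem c65 : Model.invB R (Model.cgens (ych.drop 2)) yO2 = true := by decide +kernel
theorem c66 : Model.invB R (Model.cgens (ych.drop 3)) yO1 = true := by decide +kernel
theorem c67 : Model.invB R (Model.cgens (ych.drop 6)) yO0 = true := by decide +kernel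
theorem c68 : pairsB R [3, 18, 2, 1, 0] (((yCg.flatMap fun w => [[12]].map fun y => (w ++ y, y ++ w)).drop 0).take 2) = true := by decide +kernel
theorem c69 : pairsB R [3, 18, 2, 1, 0] ((CE.drop 0).take 50) = true := by decide +kernel
theorem c70 : pairsB R [3, 18, 2, 1, 0] (((Model.outE 11 12 13 [12] 11 3 1 2 RL).drop 0).take 7) = true := by decide +kernel
theorem c71 : neB R [11] [] 0 12 0 = true := by decide +kernel
theorem c72 : allL (elimB R 11 12 13 RL [(1, []), (2, [42, 12, 12, 12])]) ((EL.drop 0).take 50) = true := by decide +kernel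
theorem c73 : allL (innB R 11 13 2 [42, 12, 12, 12]) ((NL.drop 0).take 25) = true := by decide +kernel
theorem c74 : eqW R2 0 R2.lg [43, 11] [11, 11, 43] = true := by decide +kernel
theorem c75 : eqW R2 0 R2.lg [43, 12] [12, 43] = true := by decide +kernel
theorem c76 : eqW R2 0 R2.lg [43, 13] [13, 42, 12, 12, 12, 43] = true := by decide +kernel
theorem c77 : defsChk R defs 11 = true := by decide +kernel
end H0.OHS
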