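import Cfsg.Agent.H0.OHS.D
set_option maxRecDepth 100000
set_option Elab.async false
set_option linter.unusedSectionVars false
namespace H0.OHS
open H0 BN 
theorem defs_ok : DefsOK R.p defs 11 := defsOK_of_chk c77
universe u
variable {G : Type u} [Group G] [Finite G] (m0 : Model G) (h0 : m0.R = H6M.MHS.R)
noncomputable def m : Model G := m0.ext (lg := nat_lit 7) (N := nat_lit 128) (l := H6M.MHS.nl) h0 nl nl_ok 11 rfl defs defs_ok (by decide +kernel)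
theorem mR : (m m0 h0).R = R := rfl
variable (hb : m0.pst [3, 18, 2, 1, 0] = ⊥) (hc : Nat.card G = 44352000)
include h0 hb hc
theorem base : (m m0 h0).pst [3, 18, 2, 1, 0] = ⊥ := hb
omit hb hc in
theorem xch_ok : (m m0 h0).ChainOK xch [] := ((m m0 h0).chain_cons [1, 0, 1, 0, 1, 0, 1, 0, 1, 0, 0, 1] (Model.via _ (mR m0 h0) (fun R => Model.fixP R [] [[14], [15]]) c10) (Model.via _ (mR m0 h0) (fun R => Model.growP R [[14], [15]] [1, 0, 1, 0, 1, 0, 1, 0, 1, 0, 0, 1] 33 100) c11) ((m m0 h0).chain_cons [0, 1, 0, 1, 0, 1, 0, 1] (Model.via _ (mR m0 h0) (fun R => Model.fixP R [33] [[16], [17]]) c8) (Model.via _ (mR m0 h0) (fun R => Model.growP R [[16], [17]] [0, 1, 0, 1, 0, 1, 0, 1] 23 22) c9) ((m m0 h0).chain_cons [0, 1, 0, 1, 0, 1, 1, 0, 0] (Model.via _ (mR m0 h0) (fun R => Model.fixP R [23, 33] [[18], [19]]) c6) (Model.via _ (mR m0 h0) (fun R => Model.growP R [[18], [19]] [0, 1, 0, 1, 0, 1, 1, 0,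 0] 94 21) c7) ((m m0 h0).chain_cons [0, 1, 0, 1, 0, 1, 0] (Model.via _ (mR m0 h0) (fun R => Model.fixP R [94, 23, 33] [[20], [21]]) c4) (Model.via _ (mR m0 h0) (fun R => Model.growP R [[20], [21]] [0, 1, 0, 1, 0, 1, 0] 83 20) c5) ((m m0 h0).chain_cons [1, 2, 0, 1, 1, 0] (Model.via _ (mR m0 h0) (fun R => Model.fixP R [83, 94, 23, 33] [[22], [23], [24]]) c2) (Model.via _ (mR m0 h0) (fun R => Model.growP R [[22], [23], [24]] [1, 2, 0, 1, 1, 0] 29 16) c3) ((m m0 h0).chain_cons [0, 0] (Model.via _ (mR m0 h0) (fun R => Model.fixP R [29, 83, 94, 23, 33] [[25]]) c0) (Model.via _ (mR m0 h0) (fun R => Model.growP R [[25]] [0, 0] 5 3) c1) ((m m0 h0).chain_nil _)))))))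
theorem xtop : gen (m m0 h0).g (Model.cgens xch) = ⊤ := (m m0 h0).chain_top (xch_ok m0 h0) (hc.trans (by decide +kernel))
theorem xbdd : (m m0 h0).Bdd := (m m0 h0).bdd_of_top (xtop m0 h0 hb hc)
theorem xot : (m m0 h0).OTOK xOT := ((m m0 h0).otok_cons (xch_ok m0 h0) (hc.trans (by decide +kernel)) 4 rfl (Model.via _ (mR m0 h0) (fun R => Model.invB R (Model.cgens (xch.drop 4)) xO0) c22) ((m m0 h0).otok_cons (xch_ok m0 h0) (hc.trans (by decide +kernel)) 1 rfl (Model.via _ (mR m0 h0) (fun R => Model.invB R (Model.cgens (xch.drop 1)) xO1) c21) ((m m0 h0).otok_cons (xch_ok m0 h0) (hc.trans (by decide +kernel)) 0 rfl (Model.via _ (mR m0 h0) (fun R => Model.invB R (Model.cgens (xch.drop 0)) xO2) c20) (m m0 h0).otok_nil)))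
theorem xcm : ∀ w ∈ xCg, (m m0 h0).Cm [[11]] (ev (m m0 h0).g w) := (m m0 h0).cm_of_pairs (all_take_done (all_take_step (all_take_zero _ (xCg.flatMap fun w => [[11]].map fun y => (w ++ y, y ++ w))) ((m m0 h0).pairs_of (base m0 h0 hb hc) (Model.via _ (mR m0 h0) (fun R => pairsB R [3, 18, 2, 1, 0] (((xCg.flatMap fun w => [[11]].map fun y => (w ++ y, y ++ w)).drop 0).take 1)) c23))) (by decide +kernel))
theorem xn2 : (m m0 h0).Sol [[11]] xCg [5, 29, 83, 94, 23, 33] [5, 29, 83, 94, 23, 33] := (m m0 h0).sol_done [0, 1, 2, 3, 4, 5] (((m m0 h0).chain_bot (xch_ok m0 h0) (hc.trans (by decide +kernel))).le.trans bot_le) (by decide +kernel)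
theorem xn1 : (m m0 h0).Sol [[11]] xCg [33] [33] := (m m0 h0).sol_free (xbdd m0 h0 hb hc) (xcm m0 h0 hb hc) (xot m0 h0 hb hc) ((m m0 h0).excl_zero _ _) (Model.via _ (mR m0 h0) (fun R => freeB R xOT [[11]] xCg [0] [33] [33] [] 23 0 [([], 23, 1)] [[0]] [0, 0, 0, 0, 0, 0, 0, 0, 0, 0] xc16) c16) ((m m0 h0).solL_leaves (xot m0 h0 hb hc) [0] (Bc := [5, 29, 83, 94, 23]) (Model.via _ (mR m0 h0) (fun R => cycB R (subst [[11]] [0]) [5, 29, 83, 94, 23]) c13) (Model.via _ (mR m0 h0) (fun R => allL (leafB R xOT (subst [[11]] [0]) [0, 1, 2, 3, 4, 5] [5, 29, 83, 94, 23] [33] [33]) xL15) c15) ((m m0 h0).solL_cons ((m m0 h0).sol_cyc [0] (Bc := [5, 29, 83, 94, 23]) (T := [5, 29, 83, 94, 23]) rfl (Model.via _ (mR m0 h0) (fun R => cycB R (subst [[11]] [0]) [5, 29, 83, 94, 23]) c13) (Model.via _ (mR m0 h0) (fun R => cycB R (subst [[11]] [0]) [5, 29, 83, 94, 23]) c14) (xn2 m0 h0 hb hc)) (m m0 h0).solL_nil))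
theorem xn0 : (m m0 h0).Sol [[11]] xCg [] [] := (m m0 h0).sol_free (xbdd m0 h0 hb hc) (xcm m0 h0 hb hc) (xot m0 h0 hb hc) ((m m0 h0).excl_mov (xbdd m0 h0 hb hc) [0] (Model.via _ (mR m0 h0) (fun R => exclB R (subst [[11]] [0]) 33 xD0) c18)) (Model.via _ (mR m0 h0) (fun R => freeB R xOT [[11]] xCg [] [] [] [] 33 xD0 [([], 33, 2)] [[0]] [] xc19) c19) ((m m0 h0).solL_cons ((m m0 h0).sol_cyc [] (Bc := [33]) (T := [33]) rfl (Model.via _ (mR m0 h0) (fun R => cycB R (subst [[11]] []) [33]) c12) (Model.via _ (mR m0 h0) (fun R => cycB R (subst [[11]] []) [33]) c17) (xn1 m0 h0 hb hc)) (m m0 h0).solL_nil)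
theorem xsol : (m m0 h0).Sol [[11]] xCg [] [] := xn0 m0 h0 hb hc
omit hb hc in
theorem ych_ok : (m m0 h0).ChainOK ych [] := ((m m0 h0).chain_cons [0, 1, 0, 1, 0, 1, 0, 1, 0, 1, 0] (Model.via _ (mR m0 h0) (fun R => Model.fixP R [] [[14], [15]]) c36) (Model.via _ (mR m0 h0) (fun R => Model.growP R [[14], [15]] [0, 1, 0, 1, 0, 1, 0, 1, 0, 1, 0] 40 100) c37) ((m m0 h0).chain_cons [0, 1, 0, 0, 0, 1, 0, 0, 0, 0, 0] (Model.via _ (mR m0 h0) (fun R => Model.fixP R [40] [[26], [27]]) c34) (Model.via _ (mR m0 h0) (fun R => Model.growP R [[26], [27]] [0, 1, 0, 0, 0, 1, 0, 0, 0, 0, 0] 62 22) c35) ((m m0 h0).chain_cons [0, 1, 0, 1, 0, 1, 0, 1] (Model.via _ (mR m0 h0) (fun R => Model.fixP R [62, 40] [[28], [29]]) c32) (Model.via _ (mR m0 h0) (fun R => Model.growP R [[28], [29]] [0, 1, 0, 1, 0, 1, 0, 1] 24 21) c33) ((m m0 h0).chain_cons [1, 0, 1] (Model.via _ (mR m0 h0) (fun R => Model.fixP R [24, 62, 40]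 [[30], [31]]) c30) (Model.via _ (mR m0 h0) (fun R => Model.growP R [[30], [31]] [1, 0, 1] 59 5) c31) ((m m0 h0).chain_cons [1, 0, 0] (Model.via _ (mR m0 h0) (fun R => Model.fixP R [59, 24, 62, 40] [[32], [33], [34]]) c28) (Model.via _ (mR m0 h0) (fun R => Model.growP R [[32], [33], [34]] [1, 0, 0] 48 4) c29) ((m m0 h0).chain_cons [0, 0] (Model.via _ (mR m0 h0) (fun R => Model.fixP R [48, 59, 24, 62, 40] [[35], [36], [37]]) c26) (Model.via _ (mR m0 h0) (fun R => Model.growP R [[35], [36], [37]] [0, 0] 91 3) c27) ((m m0 h0).chain_cons [0, 1, 2, 3] (Model.via _ (mR m0 h0) (fun R => Model.fixP R [91, 48, 59, 24, 62, 40] [[38], [39], [40], [41]]) c24) (Model.via _ (mR m0 h0) (fun R => Model.growP R [[38], [39], [40], [41]] [0, 1, 2, 3] 33 16) c25) ((m m0 h0).chain_nil _))))))))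
theorem ytop : gen (m m0 h0).g (Model.cgens ych) = ⊤ := (m m0 h0).chain_top (ych_ok m0 h0) (hc.trans (by decide +kernel))
theorem ybdd : (m m0 h0).Bdd := (m m0 h0).bdd_of_top (ytop m0 h0 hb hc)
theorem yot : (m m0 h0).OTOK yOT := ((m m0 h0).otok_cons (ych_ok m0 h0) (hc.trans (by decide +kernel)) 6 rfl (Model.via _ (mR m0 h0) (fun R => Model.invB R (Model.cgens (ych.drop 6)) yO0) c67) ((m m0 h0).otok_cons (ych_ok m0 h0) (hc.trans (by decide +kernel)) 3 rfl (Model.via _ (mR m0 h0) (fun R => Model.invB R (Model.cgens (ych.drop 3)) yO1) c66) ((m m0 h0).otok_cons (ych_ok m0 h0) (hc.trans (by decide +kernel)) 2 rfl (Model.via _ (mR m0 h0) (fun R => Model.invB R (Model.cgens (ych.drop 2)) yO2) c65) ((m m0 h0).otok_cons (ych_ok m0 h0) (hc.trans (by decide +kernel)) 6 rfl (Model.via _ (mR m0 h0) (fun R => Model.invB R (Model.cgens (ych.drop 6)) yO3) c64) ((m m0 h0).otok_cons (ych_ok m0 h0) (hc.trans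 (by decide +kernel)) 1 rfl (Model.via _ (mR m0 h0) (fun R => Model.invB R (Model.cgens (ych.drop 1)) yO4) c63) ((m m0 h0).otok_cons (ych_ok m0 h0) (hc.trans (by decide +kernel)) 0 rfl (Model.via _ (mR m0 h0) (fun R => Model.invB R (Model.cgens (ych.drop 0)) yO5) c62) (m m0 h0).otok_nil))))))
theorem ycm : ∀ w ∈ yCg, (m m0 h0).Cm [[12]] (ev (m m0 h0).g w) := (m m0 h0).cm_of_pairs (all_take_done (all_take_step (all_take_zero _ (yCg.flatMap fun w => [[12]].map fun y => (w ++ y, y ++ w))) ((m m0 h0).pairs_of (base m0 h0 hb hc) (Model.via _ (mR m0 h0) (fun R => pairsB R [3, 18, 2, 1, 0] (((yCg.flatMap fun w => [[12]].map fun y => (w ++ y, y ++ w)).drop 0).take 2)) c68))) (by decide +kernel))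
theorem yn5 : (m m0 h0).Sol [[12]] yCg [33, 4, 91, 48, 59, 24, 62, 40] [33, 4, 91, 48, 59, 24, 62, 40] := (m m0 h0).sol_done [0, 2, 3, 4, 5, 6, 7] (((m m0 h0).chain_bot (ych_ok m0 h0) (hc.trans (by decide +kernel))).le.trans bot_le) (by decide +kernel)
theorem yn4 : (m m0 h0).Sol [[12]] yCg [4, 91, 48, 59, 24, 62, 40] [4, 91, 48, 59, 24, 62, 40] := (m m0 h0).sol_free (ybdd m0 h0 hb hc) (ycm m0 h0 hb hc) (yot m0 h0 hb hc) ((m m0 h0).excl_mov (ybdd m0 h0 hb hc) [0] (Model.via _ (mR m0 h0) (fun R => exclB R (subst [[12]] [0]) 33 yD4) c44)) (Model.via _ (mR m0 h0) (fun R => freeB R yOT [[12]] yCg [1, 2, 3, 4, 5, 6] [4, 91, 48, 59, 24, 62, 40] [4, 91, 48, 59, 24, 62, 40] [] 33 yD4 [([], 33, 0)] [] [] yc45) c45) ((m m0 h0).solL_cons ((m m0 h0).sol_cyc [] (Bc := [33]) (T := [33]) rfl (Model.via _ (mR m0 h0) (fun R => cycB R (subst [[12]] []) [33]) c42) (Model.via _ (mR m0 h0) (fun R => cycB R (subst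 [[12]] []) [33]) c43) (yn5 m0 h0 hb hc)) (m m0 h0).solL_nil)
theorem yn3 : (m m0 h0).Sol [[12]] yCg [24, 62, 40] [24, 62, 40] := (m m0 h0).sol_free (ybdd m0 h0 hb hc) (ycm m0 h0 hb hc) (yot m0 h0 hb hc) ((m m0 h0).excl_zero _ _) (Model.via _ (mR m0 h0) (fun R => freeB R yOT [[12]] yCg [0, 1, 2] [24, 62, 40] [24, 62, 40] [] 59 0 [([], 59, 1)] [[0]] [0, 0, 0, 0] yc47) c47) ((m m0 h0).solL_cons ((m m0 h0).sol_cyc [0] (Bc := [4, 91, 48, 59]) (T := [4, 91, 48, 59]) rfl (Model.via _ (mR m0 h0) (fun R => cycB R (subst [[12]] [0]) [4, 91, 48, 59]) c41) (Model.via _ (mR m0 h0) (fun R => cycB R (subst [[12]] [0]) [4, 91, 48, 59]) c46) (yn4 m0 h0 hb hc)) (m m0 h0).solL_nil)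
theorem yn2 : (m m0 h0).Sol [[12]] yCg [62, 40] [62, 40] := (m m0 h0).sol_free (ybdd m0 h0 hb hc) (ycm m0 h0 hb hc) (yot m0 h0 hb hc) ((m m0 h0).excl_mov (ybdd m0 h0 hb hc) [0] (Model.via _ (mR m0 h0) (fun R => exclB R (subst [[12]] [0]) 24 yD2) c49)) (Model.via _ (mR m0 h0) (fun R => freeB R yOT [[12]] yCg [0, 1] [62, 40] [62, 40] [] 24 yD2 [([], 24, 2)] [[0]] [] yc50) c50) ((m m0 h0).solL_cons ((m m0 h0).sol_cyc [] (Bc := [24]) (T := [24]) rfl (Model.via _ (mR m0 h0) (fun R => cycB R (subst [[12]] []) [24]) c40) (Model.via _ (mR m0 h0) (fun R => cycB R (subst [[12]] []) [24]) c48) (yn3 m0 h0 hb hc)) (m m0 h0).solL_nil)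
theorem yn7 : (m m0 h0).Sol [[12]] yCg [24, 62, 40] [62, 24, 40] := (m m0 h0).sol_free (ybdd m0 h0 hb hc) (ycm m0 h0 hb hc) (yot m0 h0 hb hc) ((m m0 h0).excl_zero _ _) (Model.via _ (mR m0 h0) (fun R => freeB R yOT [[12]] yCg [0, 1, 2] [24, 62, 40] [62, 24, 40] [28, 29, 29, 29, 26, 27, 26, 26] 59 0 [([], 59, 1)] [[0]] [0, 0, 0, 0] yc53) c53) ((m m0 h0).solL_leaves (yot m0 h0 hb hc) [0] (Bc := [4, 91, 48, 59]) (Model.via _ (mR m0 h0) (fun R => cycB R (subst [[12]] [0]) [4, 91, 48, 59]) c41) (Model.via _ (mR m0 h0) (fun R => allL (leafB R yOT (subst [[12]] [0]) [1, 2, 3, 4, 5, 6] [4, 91, 48, 59] [24, 62, 40] [62, 24, 40]) yL52) c52) (m m0 h0).solL_nil)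
theorem yn6 : (m m0 h0).Sol [[12]] yCg [62, 40] [24, 40] := (m m0 h0).sol_free (ybdd m0 h0 hb hc) (ycm m0 h0 hb hc) (yot m0 h0 hb hc) ((m m0 h0).excl_mov (ybdd m0 h0 hb hc) [0] (Model.via _ (mR m0 h0) (fun R => exclB R (subst [[12]] [0]) 24 yD2) c49)) (Model.via _ (mR m0 h0) (fun R => freeB R yOT [[12]] yCg [0, 1] [62, 40] [24, 40] [26, 27, 26, 26] 24 yD2 [([], 24, 2)] [[0]] [] yc55) c55) ((m m0 h0).solL_cons ((m m0 h0).sol_cyc [] (Bc := [24]) (T := [62]) rfl (Model.via _ (mR m0 h0) (fun R => cycB R (subst [[12]] []) [24]) c40) (Model.via _ (mR m0 h0) (fun R => cycB R (subst [[12]] []) [62]) c54) (yn7 m0 h0 hb hc)) (m m0 h0).solL_nil)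
theorem yn1 : (m m0 h0).Sol [[12]] yCg [40] [40] := (m m0 h0).sol_free (ybdd m0 h0 hb hc) (ycm m0 h0 hb hc) (yot m0 h0 hb hc) ((m m0 h0).excl_mov (ybdd m0 h0 hb hc) [0] (Model.via _ (mR m0 h0) (fun R => exclB R (subst [[12]] [0]) 62 yD1) c57)) (Model.via _ (mR m0 h0) (fun R => freeB R yOT [[12]] yCg [0] [40] [40] [] 62 yD1 [([], 62, 4)] [[0]] [] yc58) c58) ((m m0 h0).solL_cons ((m m0 h0).sol_cyc [] (Bc := [62]) (T := [24]) rfl (Model.via _ (mR m0 h0) (fun R => cycB R (subst [[12]] []) [62]) c39) (Model.via _ (mR m0 h0) (fun R => cycB R (subst [[12]] []) [24]) c56) (yn6 m0 h0 hb hc)) ((m m0 h0).solL_cons ((m m0 h0).sol_cyc [] (Bc := [62]) (T := [62]) rfl (Model.via _ (mR m0 h0) (fun R => cycB R (subst [[12]] []) [62]) c39) (Model.via _ (mR m0 h0) (fun R => cycB R (subst [[12]] []) [62]) c51) (yn2 m0 h0 hb hc)) (m m0 h0).solL_nil))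
theorem yn0 : (m m0 h0).Sol [[12]] yCg [] [] := (m m0 h0).sol_free (ybdd m0 h0 hb hc) (ycm m0 h0 hb hc) (yot m0 h0 hb hc) ((m m0 h0).excl_mov (ybdd m0 h0 hb hc) [0] (Model.via _ (mR m0 h0) (fun R => exclB R (subst [[12]] [0]) 40 yD0) c60)) (Model.via _ (mR m0 h0) (fun R => freeB R yOT [[12]] yCg [] [] [] [] 40 yD0 [([], 40, 5)] [[0], [1]] [1, 1, 1, 1] yc61) c61) ((m m0 h0).solL_cons ((m m0 h0).sol_cyc [] (Bc := [40]) (T := [40]) rfl (Model.via _ (mR m0 h0) (fun R => cycB R (subst [[12]] []) [40]) c38) (Model.via _ (mR m0 h0) (fun R => cycB R (subst [[12]] []) [40]) c59) (yn1 m0 h0 hb hc)) (m m0 h0).solL_nil)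
theorem ysol : (m m0 h0).Sol [[12]] yCg [] [] := yn0 m0 h0 hb hc
theorem inj : Function.Injective (m m0 h0).φ := (m m0 h0).inj_of_base (base m0 h0 hb hc)
theorem gtop : gen (m m0 h0).g ([11, 12, 13].map fun x => [x]) = ⊤ :=
  top_of_marks ((m m0 h0).defsOK_g (inj m0 h0 hb hc) ((mR m0 h0).symm ▸ defs_ok)) _ (xtop m0 h0 hb hc) (by decide +kernel)
theorem cl : ∀ k ∈ Subgroup.centralizer {ev (m m0 h0).g [12]}, ∃ w ∈ CL, k = ev (m m0 h0).g w := fun k hk =>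
  list_closed (all_take_done (all_take_step (all_take_zero _ CE) ((m m0 h0).pairs_of (base m0 h0 hb hc) (Model.via _ (mR m0 h0) (fun R => pairsB R [3, 18, 2, 1, 0] ((CE.drop 0).take 50)) c69))) (by decide +kernel)) (by decide +kernel) k ((m m0 h0).cent_le (ysol m0 h0 hb hc) hk)
theorem ocl : (m m0 h0).OutCl 11 12 13 [(1, []), (2, [42, 12, 12, 12])] :=
  (m m0 h0).outCl (r := 11) (t := 3) (s := 5) (e := 1) (n := 2) (K := [1, 2]) (RL := RL) (EL := EL) hc (by decide +kernel) (by decide +kernel)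
    (all_take_done (all_take_step (all_take_zero _ (Model.outE 11 12 13 [12] 11 3 1 2 RL)) ((m m0 h0).pairs_of (base m0 h0 hb hc) (Model.via _ (mR m0 h0) (fun R => pairsB R [3, 18, 2, 1, 0] (((Model.outE 11 12 13 [12] 11 3 1 2 RL).drop 0).take 7)) c70))) (by decide +kernel)) ((m m0 h0).ne_of_neB (Model.via _ (mR m0 h0) (fun R => neB R [11] [] 0 12 0) c71)) (xsol m0 h0 hb hc) (cl m0 h0 hb hc)
    (by decide +kernel) (by decide +kernel) (all_take_done (all_take_step (all_take_zero _ EL) (allL_spec (Model.via _ (mR m0 h0) (fun R => allL (elimB R 11 12 13 RL [(1, []), (2, [42, 12, 12, 12])]) ((EL.drop 0).take 50)) c72))) (by decide +kernel))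
theorem outer : ∃ α, α ∉ Cfsg.Inn G :=
  (m m0 h0).exists_outer (inj m0 h0 hb hc) (mR m0 h0) s43 nl3_ok (k := 2) (e := 1) (c := [42, 12, 12, 12]) (gtop m0 h0 hb hc) (by decide +kernel)
    (List.forall_mem_cons.2 ⟨(eq_of_eqW R2 c74), List.forall_mem_cons.2 ⟨(eq_of_eqW R2 c75), List.forall_mem_cons.2 ⟨(eq_of_eqW R2 c76), List.forall_mem_nil _⟩⟩⟩) rfl (cl m0 h0 hb hc) (NL := NL) (by decide +kernel) (all_take_done (all_take_step (all_take_zero _ NL) (allL_spec (Model.via _ (mR m0 h0) (fun R => allL (innB R 11 13 2 [42, 12, 12, 12]) ((NL.drop 0).take 25)) c73))) (by decide +kernel))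
theorem out : Nat.card (Cfsg.Out G) = 2 := (m m0 h0).out_two (gtop m0 h0 hb hc) (ocl m0 h0 hb hc) (outer m0 h0 hb hc)
end H0.OHS
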